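import Groth.Agent.H27.Hyp.RegDiff

/-!
Basis of the regular differentials of a hyperelliptic function field.
-/

set_option autoImplicit false

namespace Groth.Agent.H27.Hyp

open FunFld WithZero Polynomial IntermediateField Groth.Agent.H55 Groth.Agent.H27.Tate

universe u v w

theorem hyperelliptic_regular (k : Type u) (K : Type v) [Field k] [Field K] [Algebra k K]
    [Algebra (RatFunc k) K] [IsScalarTower k (RatFunc k) K]
    (hK : FunFld.IsFunctionField k K) (hdeg : Module.finrank (RatFunc k) K = 2)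
    (h2 : ringChar k ≠ 2)
    (y : K) (f : Polynomial k) (hf : Squarefree f) (hd : 1 ≤ f.natDegree)
    (heq : y ^ 2 = algebraMap (RatFunc k) K (algebraMap (Polynomial k) (RatFunc k) f))
    (F : FunFld.Place k K → Type w) [∀ P, Field (F P)] [∀ P, Algebra k (F P)]
    [∀ P, FiniteDimensional k (F P)]
    (φ : ∀ P, K →ₐ[k] LaurentSeries (F P)) (hφ : ∀ P, LocRes.IsExpansionAt P.1 (φ P)) :
    (∀ i : ℕ, i < FunFld.genus k K → ∀ P,
      LocRes.vDiff (φ P) (algebraMap (RatFunc k) K RatFunc.X ^ i / y)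
        (algebraMap (RatFunc k) K RatFunc.X) ≤ 1) ∧
    ∀ z : K, (∀ P, LocRes.vDiff (φ P) z (algebraMap (RatFunc k) K RatFunc.X) ≤ 1) →
      ∃ a : Polynomial k, a.degree < (FunFld.genus k K : WithBot ℕ) ∧
        z = algebraMap (RatFunc k) K (algebraMap (Polynomial k) (RatFunc k) a) / y := by
  classical
  obtain ⟨x, hxdef⟩ : ∃ x : K, x = algebraMap (RatFunc k) K RatFunc.X := ⟨_, rfl⟩
  have hxK : xK k K = x := hxdef.symm
  rw [← hxdef]
  have hx : Transcendental k x := hxK ▸ transcendental_xK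
  have hy : y ∉ (algebraMap (RatFunc k) K).range := hyperelliptic_y_not_mem y f hf hd heq
  have hxy : IntermediateField.adjoin k ({x, y} : Set K) = ⊤ := hxK ▸ adjoin_eq_top hdeg y hy
  have hpoly : ∀ q : k[X], algebraMap (RatFunc k) K (algebraMap k[X] (RatFunc k) q) =
      aeval x q := fun q => hxK ▸ algebraMap_poly q
  have heq' : y ^ 2 = aeval x f := by rw [heq, hpoly]
  have hgen := genus_hyperelliptic hK h2 x y hx hxy f hf hd heq'
  obtain ⟨hdeg', -, -⟩ := hyper_sigma h2 x y hx hxy f hf hd heq'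
  have h2k : (2 : k) ≠ 0 := Ring.two_ne_zero h2
  haveI : Algebra.IsSeparable k⟮x⟯ K := quadratic_separable (by
    have h3 := (map_ne_zero_iff (algebraMap k k⟮x⟯) (algebraMap k k⟮x⟯).injective).mpr h2k
    rwa [map_ofNat] at h3) hdeg'
  obtain ⟨eΩ, heΩ⟩ := kaehler_equiv_of_separating x hx
  have hfr : Module.finrank K (Ω[K⁄k]) = 1 := by rw [eΩ.finrank_eq, Module.finrank_self]
  have hdx : KaehlerDifferential.D k K x ≠ 0 := by
    intro h0
    rw [h0, map_zero] at heΩ
    exact zero_ne_one heΩ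
  have hf0 : f ≠ 0 := hf.ne_zero
  have hx0 : x ≠ 0 := by
    rintro rfl
    exact hx isAlgebraic_zero
  have hy0 : y ≠ 0 := by
    rintro rfl
    rw [zero_pow two_ne_zero] at heq'
    exact hx ⟨f, hf0, heq'.symm⟩
  -- regularity
  have hreg : ∀ i : ℕ, i < FunFld.genus k K → ∀ P,
      LocRes.vDiff (φ P) (x ^ i / y) x ≤ 1 := by
    intro i hi P
    rw [hgen] at hi
    unfold LocRes.vDiff
    rw [map_mul, (hφ P).1, map_div₀, map_pow]
    by_cases hPx : P.1 x ≤ 1
    · have hPy2 : P.1 y ^ 2 ≤ 1 := by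
        rw [← map_pow, heq']
        exact val_aeval_le_one P hPx f
      have hPy : P.1 y ≤ 1 := by
        by_contra h
        push Not at h
        exact absurd hPy2 (not_le.2 (one_lt_pow₀ h two_ne_zero))
      rcases lt_or_eq_of_le hPy with hlt | heq1
      · obtain ⟨h1, h2'⟩ := ramified_place hdeg h2 y f hf heq P hlt (φ P) (hφ P)
        rw [hxK] at h2'
        rw [h1, h2', div_mul_cancel₀ _ exp_ne_zero]
        exact pow_le_one' hPx i
      · rw [heq1, div_one]
        exact mul_le_one' (pow_le_one' hPx i) (vD_le_one (hφ P) hPx)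
    · push Not at hPx
      obtain ⟨e, he⟩ : ∃ e : ℤ, P.1 x = exp e :=
        ⟨log (P.1 x), (exp_log ((P.1.ne_zero_iff).2 hx0)).symm⟩
      obtain ⟨m, hm⟩ : ∃ m : ℤ, P.1 y = exp m :=
        ⟨log (P.1 y), (exp_log ((P.1.ne_zero_iff).2 hy0)).symm⟩
      have he1 : 1 ≤ e := by
        rw [he, ← exp_zero, exp_lt_exp] at hPx
        omega
      have h2m : 2 * m = f.natDegree * e := by
        have h1 : P.1 y ^ 2 = P.1 x ^ f.natDegree := by
          rw [← map_pow, heq', val_aeval_of_one_lt P hPx hf0]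
        rw [hm, he, ← exp_nsmul, ← exp_nsmul, exp_inj] at h1
        simpa using h1
      have hDx : Valued.v (LocRes.D (F P) (φ P x)) ≤ exp (e + 1) := by
        have h1 := (Groth.Agent.H27.DiffExp.valued_D_of_val (f := φ P x) (e := -e)
          (by rw [(hφ P).1, he, neg_neg])).1
        have h3 : -(-e - 1) = e + 1 := by ring
        rwa [h3] at h1
      rw [he, hm, ← exp_nsmul, ← exp_sub]
      calc exp (i • e - m) * Valued.v (LocRes.D (F P) (φ P x))
          ≤ exp (i • e - m) * exp (e + 1) := mul_le_mul' le_rfl hDx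
        _ = exp (i • e - m + (e + 1)) := (exp_add _ _).symm
        _ ≤ 1 := by
          rw [← exp_zero, exp_le_exp]
          have h4 := arith e m i f.natDegree he1 h2m (by omega)
          simp only [nsmul_eq_mul]
          linarith
  refine ⟨hreg, ?_⟩
  -- spanning
  intro z hz
  obtain ⟨Cd, hset, hell⟩ := Groth.Agent.H27.GenCanFr.regular_eq_L hK hfr φ hφ hdx
  obtain ⟨g, hg⟩ : ∃ g : ℕ, g = FunFld.genus k K := ⟨_, rfl⟩
  rw [← hg] at hreg hell ⊢
  have hzL : z ∈ L Cd := by
    have : z ∈ {y : K | ∀ P, LocRes.vDiff (φ P) y x ≤ 1} := hz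
    rwa [hset] at this
  obtain ⟨w, hwdef⟩ : ∃ w : Fin g → K, w = fun i : Fin g => x ^ (i : ℕ) / y := ⟨_, rfl⟩
  have hwL : ∀ i, w i ∈ L Cd := by
    intro i
    have : w i ∈ {y : K | ∀ P, LocRes.vDiff (φ P) y x ≤ 1} := by
      rw [hwdef]
      exact hreg i i.2
    rwa [hset] at this
  have hwli : LinearIndependent k w := by
    rw [Fintype.linearIndependent_iff]
    intro c hc
    have h1 : aeval x (∑ i : Fin g, C (c i) * X ^ (i : ℕ)) = 0 := by
      rw [map_sum]
      have h3 : ∑ i, c i • w i = (∑ i : Fin g, aeval x (C (c i) * X ^ (i : ℕ))) / y := by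
        rw [Finset.sum_div]
        refine Finset.sum_congr rfl fun i _ => ?_
        rw [hwdef, map_mul, aeval_C, map_pow, aeval_X, Algebra.smul_def, mul_div_assoc]
      rw [h3, div_eq_zero_iff] at hc
      exact hc.resolve_right hy0
    have h4 : (∑ i : Fin g, C (c i) * X ^ (i : ℕ)) = 0 := by
      by_contra hne
      exact hx ⟨_, hne, h1⟩
    intro j
    have h5 := congrArg (fun q : k[X] => q.coeff (j : ℕ)) h4
    simp only [finset_sum_coeff, coeff_C_mul, coeff_X_pow, coeff_zero] at h5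
    rw [Finset.sum_eq_single j] at h5
    · simpa using h5
    · intro b _ hb
      rw [if_neg, mul_zero]
      intro h
      exact hb (Fin.ext h.symm)
    · intro h
      exact absurd (Finset.mem_univ j) h
  haveI := L_finite hK Cd
  have hspan : Submodule.span k (Set.range w) = L Cd := by
    apply Submodule.eq_of_le_of_finrank_eq
    · rw [Submodule.span_le]
      rintro _ ⟨i, rfl⟩
      exact hwL i
    · rw [finrank_span_eq_card hwli, Fintype.card_fin]
      exact hell.symm
  rw [← hspan] at hzL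
  obtain ⟨c, hc⟩ := (Submodule.mem_span_range_iff_exists_fun k).1 hzL
  refine ⟨∑ i : Fin g, C (c i) * X ^ (i : ℕ), degree_sum_fin_lt c, ?_⟩
  rw [hpoly, ← hc, map_sum, Finset.sum_div]
  refine Finset.sum_congr rfl fun i _ => ?_
  rw [hwdef, map_mul, aeval_C, map_pow, aeval_X, Algebra.smul_def, mul_div_assoc]

end Groth.Agent.H27.Hyp
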