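import Groth.Agent.H27.Tate.GenCan2Fr
import Groth.Agent.H27.Tate.ExpFD
import Groth.Agent.H27.DiffExp
import Groth.Agent.H55.FFHyper5
import Groth.Agent.H55.FFGeom

/-!
Regular differentials of a hyperelliptic function field `y² = f(x)`, `char ≠ 2`.
-/

set_option autoImplicit false

namespace Groth.Agent.H27.Hyp

open FunFld WithZero Polynomial IntermediateField Groth.Agent.H55 Groth.Agent.H27.Tate

universe u v w

variable {k : Type u} {K : Type v} [Field k] [Field K] [Algebra k K] [Algebra (RatFunc k) K]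
  [IsScalarTower k (RatFunc k) K]

/-- the image of `X`. -/
noncomputable abbrev xK (k : Type u) (K : Type v) [Field k] [Field K] [Algebra k K]
    [Algebra (RatFunc k) K] : K := algebraMap (RatFunc k) K RatFunc.X

theorem algebraMap_poly (q : k[X]) :
    algebraMap (RatFunc k) K (algebraMap k[X] (RatFunc k) q) = aeval (xK k K) q := by
  have h : ((IsScalarTower.toAlgHom k (RatFunc k) K).comp
      (IsScalarTower.toAlgHom k k[X] (RatFunc k))) = aeval (xK k K) := by
    apply Polynomial.algHom_ext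
    simp [xK, RatFunc.algebraMap_X]
  exact AlgHom.congr_fun h q

theorem transcendental_xK : Transcendental k (xK k K) := by
  have h1 : Transcendental k (RatFunc.X : RatFunc k) := RatFunc.transcendental_X
  exact (transcendental_algebraMap_iff (algebraMap (RatFunc k) K).injective).2 h1

theorem algebraMap_mem_adjoin (y : K) (r : RatFunc k) :
    algebraMap (RatFunc k) K r ∈ IntermediateField.adjoin k ({xK k K, y} : Set K) := by
  have hx : xK k K ∈ IntermediateField.adjoin k ({xK k K, y} : Set K) :=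
    IntermediateField.subset_adjoin k _ (by simp)
  have hpoly : ∀ q : k[X], aeval (xK k K) q ∈
      IntermediateField.adjoin k ({xK k K, y} : Set K) := by
    intro q
    have h1 := aeval_mem_adjoin_simple (k := k) (xK k K) q
    have h2 : k⟮xK k K⟯ ≤ IntermediateField.adjoin k ({xK k K, y} : Set K) :=
      IntermediateField.adjoin.mono k _ _ (by simp)
    exact h2 h1
  rw [← RatFunc.num_div_denom r, map_div₀, algebraMap_poly, algebraMap_poly]
  exact div_mem (hpoly _) (hpoly _)

theorem adjoin_eq_top (hdeg : Module.finrank (RatFunc k) K = 2) (y : K)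
    (hy : y ∉ (algebraMap (RatFunc k) K).range) :
    IntermediateField.adjoin k ({xK k K, y} : Set K) = ⊤ := by
  haveI : FiniteDimensional (RatFunc k) K :=
    Module.finite_of_finrank_pos (by rw [hdeg]; norm_num)
  have hli : LinearIndependent (RatFunc k) ![(1 : K), y] := by
    rw [LinearIndependent.pair_iff]
    intro s t hst
    have ht : t = 0 := by
      by_contra ht
      apply hy
      refine ⟨-s / t, ?_⟩
      rw [Algebra.smul_def, Algebra.smul_def, mul_one] at hst
      have ht' : algebraMap (RatFunc k) K t ≠ 0 := by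
        rwa [Ne, map_eq_zero]
      rw [map_div₀, map_neg, div_eq_iff ht']
      linear_combination (-1 : K) * hst
    rw [ht, zero_smul, add_zero, Algebra.smul_def, mul_one, map_eq_zero] at hst
    exact ⟨hst, ht⟩
  have hspan : Submodule.span (RatFunc k) (Set.range ![(1 : K), y]) = ⊤ :=
    hli.span_eq_top_of_card_eq_finrank' (by rw [hdeg]; simp)
  rw [eq_top_iff]
  intro z _
  have hz : z ∈ Submodule.span (RatFunc k) (Set.range ![(1 : K), y]) := by
    rw [hspan]; trivial
  rw [Matrix.range_cons, Matrix.range_cons, Matrix.range_empty, Set.union_empty,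
    Set.union_comm, Set.singleton_union, Submodule.mem_span_pair] at hz
  obtain ⟨a, b, rfl⟩ := hz
  rw [Algebra.smul_def, Algebra.smul_def, mul_one]
  have hyM : y ∈ IntermediateField.adjoin k ({xK k K, y} : Set K) :=
    IntermediateField.subset_adjoin k _ (by simp)
  exact add_mem (mul_mem (algebraMap_mem_adjoin y a) hyM) (algebraMap_mem_adjoin y b)


theorem arith (e m : ℤ) (i d : ℕ) (he : 1 ≤ e) (hm : 2 * m = d * e) (hid : 2 * i + 3 ≤ d) :
    (i : ℤ) * e - m + e + 1 ≤ 0 := by
  obtain ⟨c, rfl⟩ : ∃ c : ℕ, d = 2 * i + 2 + (c + 1) := ⟨d - 2 * i - 3, by omega⟩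
  obtain ⟨A, hA⟩ : ∃ A : ℤ, A = (i : ℤ) * e := ⟨_, rfl⟩
  have hm' : 2 * m = 2 * A + 2 * e + ((c : ℤ) + 1) * e := by
    rw [hm, hA]
    push_cast
    ring
  rw [← hA]
  rcases Nat.eq_zero_or_pos c with rfl | hc
  · simp only [Nat.cast_zero, zero_add, one_mul] at hm'
    omega
  · have hc' : (1 : ℤ) ≤ (c : ℤ) := by exact_mod_cast hc
    nlinarith

section Local

variable {F : Type w} [Field F] [Algebra k F]

theorem vD_le_one {P : Place k K} {φ : K →ₐ[k] LaurentSeries F}
    (hφ : LocRes.IsExpansionAt P.1 φ) {z : K} (hz : P.1 z ≤ 1) :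
    Valued.v (LocRes.D F (φ z)) ≤ 1 := by
  have h1 := Groth.Agent.H27.ExpFD.mem_Alev_of_int hφ hz
  have h2 := Groth.Agent.H27.SepPlace.D_mem_Alev h1
  rwa [mem_Alev_iff_val, neg_zero, exp_zero] at h2

theorem two_ne_zero_F (h2 : ringChar k ≠ 2) : ((2 : ℤ) : F) ≠ 0 := by
  have h2k : (2 : k) ≠ 0 := Ring.two_ne_zero h2
  have h3 := (map_ne_zero_iff (algebraMap k F) (algebraMap k F).injective).mpr h2k
  rw [map_ofNat] at h3
  exact_mod_cast h3

variable (hdeg : Module.finrank (RatFunc k) K = 2) (h2 : ringChar k ≠ 2)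
  (y : K) (f : k[X]) (hf : Squarefree f)
  (heq : y ^ 2 = algebraMap (RatFunc k) K (algebraMap k[X] (RatFunc k) f))

include hdeg h2 hf heq in
/-- At a finite place where `y` vanishes, `y` is a local parameter and `dx` has a simple zero. -/
theorem ramified_place (P : Place k K) (hPy : P.1 y < 1) (φ : K →ₐ[k] LaurentSeries F)
    (hφ : LocRes.IsExpansionAt P.1 φ) :
    P.1 y = exp (-1 : ℤ) ∧ Valued.v (LocRes.D F (φ (xK k K))) = exp (-1 : ℤ) := by
  have hf0 : f ≠ 0 := hf.ne_zero
  have hfne : algebraMap k[X] (RatFunc k) f ≠ 0 :=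
    (map_ne_zero_iff _ (RatFunc.algebraMap_injective k)).mpr hf0
  have hy0 : y ≠ 0 := by
    rintro rfl
    rw [zero_pow two_ne_zero] at heq
    exact hfne ((map_eq_zero _).1 heq.symm)
  have hord := hyperelliptic_ord_y hdeg y f hf heq P
  have hpos : 0 < P.ord y := (pl_val_lt_one_iff P hy0).1 hPy
  have hy1 : P.1 y = exp (-1 : ℤ) := by
    rw [pl_val_eq_exp_neg_ord P hy0, hord.1 hpos]
  refine ⟨hy1, ?_⟩
  obtain ⟨P₀, ⟨e, he⟩, -, hfpos⟩ := hord.2.1 hpos
  have hlt : P₀.1 (algebraMap k[X] (RatFunc k) f) < 1 := (pl_val_lt_one_iff P₀ hfne).2 hfpos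
  obtain ⟨p, hp, hpf, hplt⟩ := ratfunc_exists_irreducible_factor P₀ _ f rfl hf0 hlt
  obtain ⟨g, hg⟩ := hpf
  have hcop : IsCoprime p g := by
    rw [hp.coprime_iff_not_dvd]
    intro hpg
    obtain ⟨g', rfl⟩ := hpg
    have : p * p ∣ f := ⟨g', by rw [hg]; ring⟩
    exact hp.not_isUnit (hf p this)
  have hvg := ratfunc_val_coprime P₀ hp.ne_zero hplt hcop
  have hval : ∀ q : k[X], P.1 (aeval (xK k K) q) = P₀.1 (algebraMap k[X] (RatFunc k) q) ^ e := by
    intro q
    rw [← algebraMap_poly, he]
  have hPg : P.1 (aeval (xK k K) g) = 1 := by rw [hval, hvg, one_pow]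
  have hPp : P.1 (aeval (xK k K) p) = exp (-2 : ℤ) := by
    have h1 : P.1 (y ^ 2) = P.1 (aeval (xK k K) p) * P.1 (aeval (xK k K) g) := by
      rw [heq, algebraMap_poly, hg, map_mul, map_mul]
    rw [hPg, mul_one, map_pow, hy1, ← exp_nsmul] at h1
    rw [← h1]
    congr 1
  have hD := (Groth.Agent.H27.DiffExp.valued_D_of_val (F := F) (f := φ (aeval (xK k K) p))
    (e := 2) (by rw [hφ.1, hPp])).2.1 (two_ne_zero_F h2)
  have hc := Groth.Agent.H27.DiffExp.chain_rule φ (aeval (xK k K) p) (xK k K)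
    (aeval (xK k K) (derivative p)) (Derivation.map_aeval _ p (xK k K))
  have hp'0 : derivative p ≠ 0 := by
    intro h0
    rw [h0, map_zero, map_zero, zero_mul] at hc
    rw [hc, map_zero] at hD
    exact exp_ne_zero hD.symm
  have hcop' : IsCoprime p (derivative p) := by
    rw [hp.coprime_iff_not_dvd]
    intro hdvd
    have h1 := natDegree_le_of_dvd hdvd hp'0
    have h2' := natDegree_derivative_lt (p := p) hp.natDegree_pos.ne'
    omega
  have hvp' := ratfunc_val_coprime P₀ hp.ne_zero hplt hcop'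
  have hPp' : P.1 (aeval (xK k K) (derivative p)) = 1 := by rw [hval, hvp', one_pow]
  have h3 := congrArg (Valued.v (R := LaurentSeries F)) hc
  rw [hD, map_mul, hφ.1, hPp', one_mul] at h3
  rw [← h3]
  congr 1

end Local

end Groth.Agent.H27.Hyp
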